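import Mathlib
import Groth.Prelude.Def_EtMil
import Groth.Agent.MilnorFlatLib.Basic

/-!
Glued modules over Milnor squares.
-/

set_option autoImplicit false
universe u

open TensorProduct

namespace Groth.Agent.MilnorGlueLib

set_option maxHeartbeats 400000

open Groth.Agent.MilnorFlatLib

variable {R B A' A : Type u} [CommRing R] [CommRing B] [CommRing A'] [CommRing A]
  [Algebra R B] [Algebra R A'] [Algebra B A] [Algebra A' A] [Algebra R A]
  [IsScalarTower R B A] [IsScalarTower R A' A]

/-- A module dying in both corners is zero. -/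
theorem subsingleton_of_square (hsq : EtMil.IsFibreSquare R B A' A) (L : Type u) [AddCommGroup L]
    [Module R L] [Subsingleton (B ⊗[R] L)] [Subsingleton (A' ⊗[R] L)] : Subsingleton L := by
  let φ : R →ₗ[R] B := Algebra.linearMap R B
  have hk : ∀ k : LinearMap.ker φ, ∀ l : L, (k : R) • l = 0 := fun k l => by
    have hkI : algebraMap R A' (k : R) ∈ RingHom.ker (algebraMap A' A) := by
      rw [RingHom.mem_ker, ← IsScalarTower.algebraMap_apply, IsScalarTower.algebraMap_apply R B A,
        show algebraMap R B (k : R) = 0 from k.2, map_zero]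
    choose f hf1 hf2 using fun a : A' => exists_of_ker hsq (a := a * algebraMap R A' (k : R))
      ((RingHom.ker (algebraMap A' A)).mul_mem_left a hkI)
    let μ : A' →ₗ[R] R :=
      { toFun := f
        map_add' := fun a b => eq_of_fst_snd hsq (by simp [hf1]) (by simp [hf2, add_mul])
        map_smul' := fun r a => eq_of_fst_snd hsq (by simp [hf1])
          (by simp [hf2, Algebra.smul_def, mul_assoc]) }
    have h1 : μ 1 = k := eq_of_fst_snd hsq
      ((hf1 1).trans (show algebraMap R B (k : R) = 0 from k.2).symm) ((hf2 1).trans (one_mul _))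
    have h2 := congrArg (TensorProduct.lift ((LinearMap.lsmul R L).comp μ))
      (Subsingleton.elim ((1 : A') ⊗ₜ[R] l) 0)
    rw [map_zero, TensorProduct.lift.tmul, LinearMap.comp_apply, h1] at h2
    exact h2
  refine subsingleton_of_forall_eq 0 fun l => ?_
  have h0 : φ.rTensor L ((1 : R) ⊗ₜ[R] l) = 0 := Subsingleton.elim _ _
  obtain ⟨w, hw⟩ :=
    (rTensor_exact L (LinearMap.exact_subtype_ker_map φ) (surjective_fst hsq) _).1 h0
  have hl : l = TensorProduct.lid R L ((LinearMap.ker φ).subtype.rTensor L w) := by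
    rw [hw, TensorProduct.lid_tmul, one_smul]
  rw [hl]
  clear hl hw
  induction w using TensorProduct.induction_on with
  | zero => simp
  | add a b ha hb => rw [map_add, map_add, ha, hb, add_zero]
  | tmul k d => rw [LinearMap.rTensor_tmul, TensorProduct.lid_tmul, Submodule.subtype_apply, hk]

section glue

variable {N M' : Type u} [AddCommGroup N] [Module B N] [Module R N] [IsScalarTower R B N]
  [AddCommGroup M'] [Module A' M'] [Module R M'] [IsScalarTower R A' M']
  (φ : A ⊗[B] N ≃ₗ[A] A ⊗[A'] M')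

lemma exists_one_tmul (hs : Function.Surjective (algebraMap A' A)) (z : A ⊗[A'] M') :
    ∃ m : M', z = (1 : A) ⊗ₜ[A'] m := by
  induction z using TensorProduct.induction_on with
  | zero => exact ⟨0, (TensorProduct.tmul_zero _ _).symm⟩
  | add x y hx hy =>
    obtain ⟨a, rfl⟩ := hx
    obtain ⟨c, rfl⟩ := hy
    exact ⟨a + c, (TensorProduct.tmul_add _ _ _).symm⟩
  | tmul a m =>
    obtain ⟨a', rfl⟩ := hs a
    exact ⟨a' • m, by rw [Algebra.algebraMap_eq_smul_one, TensorProduct.smul_tmul]⟩

lemma glueFst_surjective (hsq : EtMil.IsFibreSquare R B A' A) :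
    Function.Surjective (EtMil.glueFst R φ) := fun n => by
  obtain ⟨m, hm⟩ := exists_one_tmul hsq.1 (φ ((1 : A) ⊗ₜ[B] n))
  exact ⟨⟨(n, m), hm⟩, rfl⟩

lemma ker_tmul (hs : Function.Surjective (algebraMap A' A)) {x : M'}
    (hx : (1 : A) ⊗ₜ[A'] x = 0) : x ∈ RingHom.ker (algebraMap A' A) • (⊤ : Submodule A' M') := by
  let ψ : A' →ₗ[A'] A := Algebra.linearMap A' A
  have h0 : ψ.rTensor M' ((1 : A') ⊗ₜ[A'] x) = 0 := by
    rw [LinearMap.rTensor_tmul]
    simpa [ψ] using hx
  obtain ⟨w, hw⟩ := (rTensor_exact M' (LinearMap.exact_subtype_ker_map ψ) hs _).1 h0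
  have hl : x = TensorProduct.lid A' M' ((LinearMap.ker ψ).subtype.rTensor M' w) := by
    rw [hw, TensorProduct.lid_tmul, one_smul]
  rw [hl]
  clear hl hw hx h0
  induction w using TensorProduct.induction_on with
  | zero => simp
  | add a b ha hb => rw [map_add, map_add]; exact add_mem ha hb
  | tmul k d =>
    rw [LinearMap.rTensor_tmul, TensorProduct.lid_tmul]
    exact Submodule.smul_mem_smul k.2 trivial

lemma span_glueSnd (hsq : EtMil.IsFibreSquare R B A' A) :
    Submodule.span A' (Set.range (EtMil.glueSnd R φ)) = ⊤ := by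
  rw [eq_top_iff]
  intro m _
  have key : ∀ t : A ⊗[B] N, ∃ y ∈ Submodule.span A' (Set.range (EtMil.glueSnd R φ)),
      φ t = (1 : A) ⊗ₜ[A'] y := fun t => by
    induction t using TensorProduct.induction_on with
    | zero => exact ⟨0, zero_mem _, by rw [map_zero, TensorProduct.tmul_zero]⟩
    | add p q hp hq =>
      obtain ⟨y, hy, hy'⟩ := hp
      obtain ⟨z, hz, hz'⟩ := hq
      exact ⟨y + z, add_mem hy hz, by rw [map_add, hy', hz', TensorProduct.tmul_add]⟩
    | tmul a n =>
      obtain ⟨a', rfl⟩ := hsq.1 a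
      obtain ⟨z, rfl⟩ := glueFst_surjective φ hsq n
      refine ⟨a' • EtMil.glueSnd R φ z, Submodule.smul_mem _ _ (Submodule.subset_span ⟨z, rfl⟩), ?_⟩
      rw [show algebraMap A' A a' ⊗ₜ[B] EtMil.glueFst R φ z =
          algebraMap A' A a' • ((1 : A) ⊗ₜ[B] EtMil.glueFst R φ z) by
        rw [TensorProduct.smul_tmul', smul_eq_mul, mul_one], map_smul,
        show φ ((1 : A) ⊗ₜ[B] EtMil.glueFst R φ z) = (1 : A) ⊗ₜ[A'] EtMil.glueSnd R φ z from z.2,
        algebraMap_smul, TensorProduct.tmul_smul]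
  obtain ⟨y, hy, hy'⟩ := key (φ.symm ((1 : A) ⊗ₜ[A'] m))
  rw [φ.apply_symm_apply] at hy'
  have h0 : (1 : A) ⊗ₜ[A'] (m - y) = 0 := by rw [TensorProduct.tmul_sub, hy', sub_self]
  have h1 : m - y ∈ Submodule.span A' (Set.range (EtMil.glueSnd R φ)) :=
    Submodule.subset_span ⟨⟨((0 : N), m - y), show φ ((1 : A) ⊗ₜ[B] (0 : N)) = _ by
      rw [TensorProduct.tmul_zero, map_zero, h0]⟩, rfl⟩
  simpa using add_mem hy h1

lemma mem_ker_smul (hsq : EtMil.IsFibreSquare R B A' A) (z : EtMil.glue R φ)
    (hz : EtMil.glueFst R φ z = 0) :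
    z ∈ RingHom.ker (algebraMap R B) • (⊤ : Submodule R (EtMil.glue R φ)) := by
  obtain ⟨⟨n, x⟩, hnx⟩ := z
  obtain rfl : n = 0 := hz
  have hx : (1 : A) ⊗ₜ[A'] x = 0 := by
    have h := hnx
    change φ ((1 : A) ⊗ₜ[B] (0 : N)) = (1 : A) ⊗ₜ[A'] x at h
    rw [TensorProduct.tmul_zero, map_zero] at h
    exact h.symm
  -- write `(0, x)` for elements of `IM'`
  have key : ∀ y ∈ RingHom.ker (algebraMap A' A) • (⊤ : Submodule A' M'),
      ∃ w ∈ RingHom.ker (algebraMap R B) • (⊤ : Submodule R (EtMil.glue R φ)),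
        (w : N × M') = ((0 : N), y) := by
    intro y hy
    induction hy using Submodule.smul_induction_on' with
    | add a _ b _ ha hb =>
      obtain ⟨w, hw, hw'⟩ := ha
      obtain ⟨v, hv, hv'⟩ := hb
      exact ⟨w + v, add_mem hw hv, by
        rw [Submodule.coe_add, hw', hv', Prod.mk_add_mk, add_zero]⟩
    | smul i hi m hmtop =>
      clear hmtop
      have hm : m ∈ Submodule.span A' (Set.range (EtMil.glueSnd R φ)) := by
        rw [span_glueSnd φ hsq]; trivial
      induction hm using Submodule.span_induction generalizing i with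
      | mem v hv =>
        obtain ⟨v, rfl⟩ := hv
        obtain ⟨r, hr1, hr2⟩ := exists_of_ker hsq (a := i) hi
        refine ⟨r • v, Submodule.smul_mem_smul hr1 trivial, Prod.ext ?_ ?_⟩
        · change r • EtMil.glueFst R φ v = 0
          rw [← algebraMap_smul B r, hr1, zero_smul]
        · change r • EtMil.glueSnd R φ v = i • EtMil.glueSnd R φ v
          rw [← algebraMap_smul A' r, hr2]
      | zero => exact ⟨0, zero_mem _, by simp; rfl⟩
      | add a b _ _ ha hb =>
        obtain ⟨w, hw, hw'⟩ := ha i hi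
        obtain ⟨v, hv, hv'⟩ := hb i hi
        exact ⟨w + v, add_mem hw hv, by
          rw [Submodule.coe_add, hw', hv', Prod.mk_add_mk, add_zero, smul_add]⟩
      | smul c a _ ha =>
        obtain ⟨w, hw, hw'⟩ := ha (i * c) ((RingHom.ker (algebraMap A' A)).mul_mem_right c hi)
        exact ⟨w, hw, by rw [hw', mul_smul]⟩
  obtain ⟨w, hw, hw'⟩ := key x (ker_tmul hsq.1 hx)
  rwa [show (⟨((0 : N), x), hnx⟩ : EtMil.glue R φ) = w from Subtype.ext hw'.symm]

theorem bijective_glueFst (hsq : EtMil.IsFibreSquare R B A' A) :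
    Function.Bijective (LinearMap.liftBaseChange B (EtMil.glueFst R φ)) := by
  refine ⟨(injective_iff_map_eq_zero _).2 fun t ht => ?_, fun n => ?_⟩
  · obtain ⟨z, rfl⟩ : ∃ z, t = (1 : B) ⊗ₜ[R] z := by
      clear ht
      induction t using TensorProduct.induction_on with
      | zero => exact ⟨0, (TensorProduct.tmul_zero _ _).symm⟩
      | add x y hx hy =>
        obtain ⟨a, rfl⟩ := hx
        obtain ⟨c, rfl⟩ := hy
        exact ⟨a + c, (TensorProduct.tmul_add _ _ _).symm⟩
      | tmul b a =>
        obtain ⟨r, rfl⟩ := surjective_fst hsq b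
        exact ⟨r • a, by rw [Algebra.algebraMap_eq_smul_one, TensorProduct.smul_tmul]⟩
    rw [LinearMap.liftBaseChange_tmul, one_smul] at ht
    have hmem := mem_ker_smul φ hsq z ht
    clear ht
    induction hmem using Submodule.smul_induction_on' with
    | smul r hr w _ =>
      rw [← TensorProduct.smul_tmul, Algebra.smul_def,
        show algebraMap R B r = 0 from hr, zero_mul, TensorProduct.zero_tmul]
    | add a _ b _ ha hb => rw [TensorProduct.tmul_add, ha, hb, add_zero]
  · obtain ⟨z, rfl⟩ := glueFst_surjective φ hsq n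
    exact ⟨1 ⊗ₜ z, by rw [LinearMap.liftBaseChange_tmul, one_smul]⟩

theorem bijective_glueSnd (hsq : EtMil.IsFibreSquare R B A' A) :
    Function.Bijective (LinearMap.liftBaseChange A' (EtMil.glueSnd R φ)) := by
  let E := LinearMap.liftBaseChange A' (EtMil.glueSnd R φ)
  refine ⟨(injective_iff_map_eq_zero _).2 fun t ht => ?_, ?_⟩
  · let ψ : A' →ₗ[R] A := (IsScalarTower.toAlgHom R A' A).toLinearMap
    let c := AlgebraTensorModule.cancelBaseChange R B B A (EtMil.glue R φ)
    let eB := LinearEquiv.ofBijective _ (bijective_glueFst φ hsq)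
    let θ : A ⊗[R] EtMil.glue R φ ≃ₗ[B] A ⊗[B] N :=
      c.symm.trans (AlgebraTensorModule.congr (LinearEquiv.refl B A) eB)
    have hθ : ∀ s, φ (θ (ψ.rTensor (EtMil.glue R φ) s)) = (1 : A) ⊗ₜ[A'] E s := by
      intro s
      induction s using TensorProduct.induction_on with
      | zero => simp
      | add x y hx hy => rw [map_add, map_add, map_add, hx, hy, map_add, TensorProduct.tmul_add]
      | tmul a z =>
        have h1 : θ (ψ a ⊗ₜ[R] z) = ψ a ⊗ₜ[B] EtMil.glueFst R φ z := by
          simp [θ, c, eB]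
        rw [LinearMap.rTensor_tmul, h1, show ψ a ⊗ₜ[B] EtMil.glueFst R φ z =
            ψ a • ((1 : A) ⊗ₜ[B] EtMil.glueFst R φ z) by
          rw [TensorProduct.smul_tmul', smul_eq_mul, mul_one], map_smul,
          show φ ((1 : A) ⊗ₜ[B] EtMil.glueFst R φ z) = (1 : A) ⊗ₜ[A'] EtMil.glueSnd R φ z from z.2,
          LinearMap.liftBaseChange_tmul, TensorProduct.tmul_smul]
        exact algebraMap_smul A a _
    have h0 : ψ.rTensor (EtMil.glue R φ) t = 0 := by
      apply θ.injective
      apply φ.injective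
      rw [hθ, map_zero, map_zero, show E t = 0 from ht, TensorProduct.tmul_zero]
    obtain ⟨w, hw⟩ :=
      (rTensor_exact (EtMil.glue R φ) (LinearMap.exact_subtype_ker_map ψ) hsq.1 t).1 h0
    obtain ⟨z, hz1, hz2⟩ : ∃ z, EtMil.glueFst R φ z = 0 ∧ t = (1 : A') ⊗ₜ[R] z := by
      rw [← hw]
      clear hw h0 ht t
      induction w using TensorProduct.induction_on with
      | zero => exact ⟨0, map_zero _, by rw [map_zero, TensorProduct.tmul_zero]⟩
      | add x y hx hy =>
        obtain ⟨a, ha1, ha2⟩ := hx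
        obtain ⟨b, hb1, hb2⟩ := hy
        exact ⟨a + b, by rw [map_add, ha1, hb1, add_zero],
          by rw [map_add, ha2, hb2, TensorProduct.tmul_add]⟩
      | tmul i z =>
        obtain ⟨r, hr1, hr2⟩ := exists_of_ker hsq (a := (i : A')) i.2
        refine ⟨r • z, by rw [map_smul, ← algebraMap_smul B r, hr1, zero_smul], ?_⟩
        rw [LinearMap.rTensor_tmul, Submodule.subtype_apply, ← TensorProduct.smul_tmul,
          Algebra.smul_def, mul_one, hr2]
    subst hz2
    rw [LinearMap.liftBaseChange_tmul, one_smul] at ht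
    rw [show z = 0 from Subtype.ext (Prod.ext hz1 ht), TensorProduct.tmul_zero]
  · rw [← LinearMap.range_eq_top, eq_top_iff, ← span_glueSnd φ hsq, Submodule.span_le]
    rintro _ ⟨z, rfl⟩
    exact ⟨1 ⊗ₜ z, by rw [LinearMap.liftBaseChange_tmul, one_smul]⟩

theorem flat_glue (hsq : EtMil.IsFibreSquare R B A' A) [Module.Flat B N] [Module.Flat A' M'] :
    Module.Flat R (EtMil.glue R φ) := by
  have : Module.Flat B (B ⊗[R] EtMil.glue R φ) :=
    Module.Flat.of_linearEquiv (LinearEquiv.ofBijective _ (bijective_glueFst φ hsq))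
  have : Module.Flat A' (A' ⊗[R] EtMil.glue R φ) :=
    Module.Flat.of_linearEquiv (LinearEquiv.ofBijective _ (bijective_glueSnd φ hsq))
  exact flat_of_square _ hsq

end glue

/-- Flat modules are glued from their two corners. -/
theorem exact_of_flat (hsq : EtMil.IsFibreSquare R B A' A) (L : Type u) [AddCommGroup L]
    [Module R L] [Module.Flat R L] :
    Function.Injective (fun l : L => (((1 : B) ⊗ₜ[R] l : B ⊗[R] L), ((1 : A') ⊗ₜ[R] l : A' ⊗[R] L))) ∧
      ∀ (x : B ⊗[R] L) (y : A' ⊗[R] L),
        (IsScalarTower.toAlgHom R B A).toLinearMap.rTensor L x =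
          (IsScalarTower.toAlgHom R A' A).toLinearMap.rTensor L y →
        ∃ l : L, (1 : B) ⊗ₜ[R] l = x ∧ (1 : A') ⊗ₜ[R] l = y := by
  let p : R →ₗ[R] B × A' := (Algebra.linearMap R B).prod (Algebra.linearMap R A')
  let q : B × A' →ₗ[R] A := (IsScalarTower.toAlgHom R B A).toLinearMap.coprod
    (-(IsScalarTower.toAlgHom R A' A).toLinearMap)
  have hp : Function.Injective p := fun r s h =>
    eq_of_fst_snd hsq (congrArg Prod.fst h) (congrArg Prod.snd h)
  have hpq : Function.Exact p q := fun ⟨b, a⟩ => by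
    constructor
    · intro h
      have : algebraMap B A b = algebraMap A' A a := by
        simpa [q, add_neg_eq_zero] using h
      obtain ⟨r, ⟨h1, h2⟩, -⟩ := hsq.2 b a this
      exact ⟨r, Prod.ext h1 h2⟩
    · rintro ⟨r, hr⟩
      rw [← hr]
      simp [p, q, ← IsScalarTower.algebraMap_apply]
  let e := TensorProduct.prodLeft R R B A' L
  have he : ∀ l, e (p.rTensor L ((1 : R) ⊗ₜ[R] l)) = ((1 : B) ⊗ₜ l, (1 : A') ⊗ₜ l) := fun l => by
    simp [e, p]
  refine ⟨fun l m h => ?_, fun x y h => ?_⟩
  · have h1 : p.rTensor L ((1 : R) ⊗ₜ[R] l) = p.rTensor L ((1 : R) ⊗ₜ[R] m) := by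
      apply e.injective
      rw [he, he]
      exact h
    simpa using congrArg (TensorProduct.lid R L)
      (Module.Flat.rTensor_preserves_injective_linearMap p hp h1)
  · have hq : ∀ w, q.rTensor L w = (IsScalarTower.toAlgHom R B A).toLinearMap.rTensor L (e w).1 -
        (IsScalarTower.toAlgHom R A' A).toLinearMap.rTensor L (e w).2 := by
      intro w
      induction w using TensorProduct.induction_on with
      | zero => simp
      | add a b ha hb =>
        rw [map_add, ha, hb, map_add, Prod.fst_add, Prod.snd_add, map_add, map_add, add_sub_add_comm]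
      | tmul z l =>
        obtain ⟨b, a⟩ := z
        simp [e, q, TensorProduct.add_tmul, TensorProduct.neg_tmul, sub_eq_add_neg]
    have h0 : q.rTensor L (e.symm (x, y)) = 0 := by
      rw [hq, e.apply_symm_apply, h, sub_self]
    obtain ⟨w, hw⟩ := (Module.Flat.rTensor_exact L hpq _).1 h0
    refine ⟨TensorProduct.lid R L w, ?_⟩
    have h2 := he (TensorProduct.lid R L w)
    rw [show (1 : R) ⊗ₜ[R] TensorProduct.lid R L w = w by
      rw [← TensorProduct.lid_symm_apply, LinearEquiv.symm_apply_apply], hw,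
      e.apply_symm_apply] at h2
    exact ⟨(congrArg Prod.fst h2).symm, (congrArg Prod.snd h2).symm⟩

end Groth.Agent.MilnorGlueLib
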